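import Mathlib

/-!
Where `Ω_{B/A} ⊗ κ(q)` has dimension at most `p`, the algebra is locally a quotient of a standard
smooth algebra of relative dimension `p`.
-/

set_option autoImplicit false
universe u

namespace Groth.Agent.H11Jac

open MvPolynomial TensorProduct

section grad

variable {A B : Type u} [CommRing A] [CommRing B] [Algebra A B] {n : ℕ}
  (φ : MvPolynomial (Fin n) A →ₐ[A] B) (q : Ideal B) [q.IsPrime]

/-- The gradient at `q`. -/
noncomputable def grad : MvPolynomial (Fin n) A →ₗ[A] (Fin n → q.ResidueField) :=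
  LinearMap.pi fun i => ((IsScalarTower.toAlgHom A B q.ResidueField).comp φ).toLinearMap ∘ₗ
    (pderiv i : Derivation A (MvPolynomial (Fin n) A) (MvPolynomial (Fin n) A)).toLinearMap

theorem grad_apply (x : MvPolynomial (Fin n) A) (i : Fin n) :
    grad φ q x i = algebraMap B q.ResidueField (φ (pderiv i x)) := rfl

theorem grad_X (i : Fin n) : grad φ q (X i) = Pi.single i 1 := by
  ext j
  rw [grad_apply, pderiv_X]
  rcases eq_or_ne j i with rfl | h
  · simp
  · simp [h, Pi.single_eq_of_ne (Ne.symm h)]

theorem grad_mul (x y : MvPolynomial (Fin n) A) :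
    grad φ q (x * y) = φ x • grad φ q y + φ y • grad φ q x := by
  ext i
  simp only [grad_apply, Pi.add_apply, Pi.smul_apply, Derivation.leibniz, smul_eq_mul, map_add,
    map_mul]
  simp only [Algebra.smul_def, grad_apply]

/-- The span of the gradients of the relations. -/
noncomputable def gradSpan : Submodule q.ResidueField (Fin n → q.ResidueField) :=
  Submodule.span q.ResidueField (grad φ q '' (RingHom.ker φ : Set (MvPolynomial (Fin n) A)))

theorem finrank_quot_gradSpan_le (hφ : Function.Surjective φ) [Algebra.EssFiniteType A B] :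
    Module.finrank q.ResidueField ((Fin n → q.ResidueField) ⧸ gradSpan φ q) ≤
      Module.finrank q.ResidueField (q.ResidueField ⊗[B] KaehlerDifferential A B) := by
  classical
  let s := Function.surjInv hφ
  have hs : ∀ b, φ (s b) = b := Function.surjInv_eq hφ
  have key : ∀ x : MvPolynomial (Fin n) A,
      (gradSpan φ q).mkQ (grad φ q (s (φ x))) = (gradSpan φ q).mkQ (grad φ q x) := fun x => by
    rw [← sub_eq_zero, ← map_sub, Submodule.mkQ_apply, Submodule.Quotient.mk_eq_zero, ← map_sub]
    exact Submodule.subset_span ⟨_, RingHom.mem_ker.mpr (by rw [map_sub, hs, sub_self]), rfl⟩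
  let D₀ : B →ₗ[A] ((Fin n → q.ResidueField) ⧸ gradSpan φ q) :=
    { toFun := fun b => (gradSpan φ q).mkQ (grad φ q (s b))
      map_add' := fun a b => by
        have h := key (s a + s b)
        rw [map_add φ, hs, hs, map_add, map_add] at h
        exact h
      map_smul' := fun r b => by
        have h := key (r • s b)
        rw [map_smul φ, hs, map_smul, LinearMap.map_smul_of_tower] at h
        exact h }
  let D' : Derivation A B ((Fin n → q.ResidueField) ⧸ gradSpan φ q) :=
    Derivation.mk' D₀ fun a b => by
      have h := key (s a * s b)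
      rw [map_mul φ, hs, hs, grad_mul, map_add, LinearMap.map_smul_of_tower,
        LinearMap.map_smul_of_tower, hs, hs] at h
      exact h
  let L : q.ResidueField ⊗[B] KaehlerDifferential A B →ₗ[q.ResidueField]
      ((Fin n → q.ResidueField) ⧸ gradSpan φ q) := D'.liftKaehlerDifferential.liftBaseChange _
  refine LinearMap.finrank_le_finrank_of_surjective (f := L) (LinearMap.range_eq_top.mp ?_)
  rw [eq_top_iff]
  intro y _
  obtain ⟨y, rfl⟩ := Submodule.mkQ_surjective _ y
  rw [pi_eq_sum_univ y, map_sum]
  refine Submodule.sum_mem _ fun i _ => ?_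
  rw [map_smul]
  refine Submodule.smul_mem _ _ ⟨1 ⊗ₜ KaehlerDifferential.D A B (φ (X i)), ?_⟩
  rw [LinearMap.liftBaseChange_tmul, one_smul, Derivation.liftKaehlerDifferential_comp_D]
  change (gradSpan φ q).mkQ (grad φ q (s (φ (X i)))) = _
  rw [key, grad_X]
  congr 1
  ext j
  simp [Pi.single_apply, eq_comm]

theorem exists_minor (hφ : Function.Surjective φ) [Algebra.EssFiniteType A B] (p : ℕ)
    (hdim : Module.finrank q.ResidueField (q.ResidueField ⊗[B] KaehlerDifferential A B) ≤ p) :
    ∃ (c : ℕ) (h : Fin c → MvPolynomial (Fin n) A) (cols : Fin c ↪ Fin n), n - c = min n p ∧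
      (∀ i, φ (h i) = 0) ∧
      φ (Matrix.of fun i j => pderiv (cols j) (h i)).det ∉ q := by
  classical
  have hle := finrank_quot_gradSpan_le φ q hφ
  have hsum := (gradSpan φ q).finrank_quotient_add_finrank
  rw [Module.finrank_fin_fun] at hsum
  let v : {x // x ∈ RingHom.ker φ} → (Fin n → q.ResidueField) := fun x => grad φ q x.1
  obtain ⟨κ', r, -, hsp, hli⟩ := exists_linearIndependent' q.ResidueField v
  haveI : Finite κ' := hli.finite
  haveI := Fintype.ofFinite κ'
  have hcard : Fintype.card κ' = Module.finrank q.ResidueField (gradSpan φ q) := by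
    rw [← finrank_span_eq_card hli, hsp, gradSpan, Set.image_eq_range]
    rfl
  let c := n - min n p
  let e : Fin c ↪ κ' := (Fin.castLEEmb (show c ≤ Fintype.card κ' by omega)).trans
    (Fintype.equivFin κ').symm.toEmbedding
  let W : Matrix (Fin c) (Fin n) q.ResidueField := Matrix.of fun a b => v (r (e a)) b
  have hW : LinearIndependent q.ResidueField W.row := hli.comp e e.injective
  have hrk : W.rank = c := by rw [hW.rank_matrix, Fintype.card_fin]
  obtain ⟨κ'', t, ht, hsp', hli'⟩ := exists_linearIndependent' q.ResidueField W.col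
  haveI : Finite κ'' := Finite.of_injective t ht
  haveI := Fintype.ofFinite κ''
  have hcard' : Fintype.card κ'' = c := by
    rw [← finrank_span_eq_card hli', hsp', ← Matrix.rank_eq_finrank_span_cols, hrk]
  let e' := (Fintype.equivFinOfCardEq hcard').symm
  refine ⟨c, fun a => (r (e a)).1, ⟨t ∘ e', ht.comp e'.injective⟩, by omega,
    fun a => RingHom.mem_ker.mp (r (e a)).2, fun hmem => ?_⟩
  have hu := (Matrix.linearIndependent_cols_iff_isUnit (A := (Matrix.of fun a b => W a (t (e' b))))).mp
    (hli'.comp e' e'.injective)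
  rw [Matrix.isUnit_iff_isUnit_det] at hu
  refine hu.ne_zero ?_
  have hmap := ((algebraMap B q.ResidueField).comp φ.toRingHom).map_det
    (Matrix.of fun a b => pderiv (t (e' b)) (r (e a)).1)
  refine hmap.symm.trans ?_
  change algebraMap B q.ResidueField (φ _) = 0
  exact Ideal.algebraMap_residueField_eq_zero.mpr hmem

end grad

/-- `A[x]/(h)` localised at a maximal minor of its Jacobian is standard smooth. -/
theorem isStandardSmooth_away {A : Type u} [CommRing A] {n c : ℕ}
    (h : Fin c → MvPolynomial (Fin n) A) (cols : Fin c ↪ Fin n) :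
    Algebra.IsStandardSmoothOfRelativeDimension (n - c) A
      (Localization.Away (Ideal.Quotient.mk (Ideal.span (Set.range h))
        (Matrix.of fun i j => pderiv (cols j) (h i)).det)) := by
  classical
  let C₀ := MvPolynomial (Fin n) A ⧸ Ideal.span (Set.range h)
  let d : C₀ := Ideal.Quotient.mk _ (Matrix.of fun i j => pderiv (cols j) (h i)).det
  let P : Algebra.PreSubmersivePresentation A C₀ (Fin n) (Fin c) :=
    Algebra.PreSubmersivePresentation.naive cols cols.injective
  let Q : Algebra.SubmersivePresentation C₀ (Localization.Away d) Unit Unit :=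
    Algebra.SubmersivePresentation.localizationAway (Localization.Away d) d
  have hP : P.jacobian = d := by
    rw [Algebra.PreSubmersivePresentation.jacobian_eq_jacobiMatrix_det]
    rw [← Matrix.det_transpose]
    have : P.jacobiMatrix.transpose = Matrix.of fun i j => pderiv (cols j) (h i) := by
      ext i j
      rw [Matrix.transpose_apply, Matrix.of_apply]
      exact congrArg _ (Algebra.PreSubmersivePresentation.jacobiMatrix_naive cols cols.injective _ _ j i)
    rw [this]
    rfl
  let S : Algebra.SubmersivePresentation A (Localization.Away d) (Unit ⊕ Fin n) (Unit ⊕ Fin c) :=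
    { __ := Q.toPreSubmersivePresentation.comp P
      jacobian_isUnit := by
        rw [Algebra.PreSubmersivePresentation.comp_jacobian_eq_jacobian_smul_jacobian, Algebra.smul_def,
          IsUnit.mul_iff, hP]
        exact ⟨IsLocalization.Away.algebraMap_isUnit d, Q.jacobian_isUnit⟩ }
  refine S.isStandardSmoothOfRelativeDimension ?_
  simp only [Algebra.Presentation.dimension, Nat.card_sum, Nat.card_fin, Nat.card_unique]
  omega

theorem exists_standardSmooth_cover {A B : Type u} [CommRing A] [CommRing B] [Algebra A B]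
    [Algebra.FiniteType A B] (q : Ideal B) [q.IsPrime] (p : ℕ)
    (hdim : Module.finrank q.ResidueField (q.ResidueField ⊗[B] KaehlerDifferential A B) ≤ p) :
    ∃ g : B, g ∉ q ∧ ∃ (C : Type u) (_ : CommRing C) (_ : Algebra A C)
      (π : C →ₐ[A] Localization.Away g), Function.Surjective π ∧
        Algebra.IsStandardSmoothOfRelativeDimension p A C := by
  classical
  obtain ⟨n₀, φ₀, hφ₀⟩ := Algebra.FiniteType.iff_quotient_mvPolynomial''.mp ‹Algebra.FiniteType A B›
  let φ : MvPolynomial (Fin (n₀ + p)) A →ₐ[A] B :=
    MvPolynomial.aeval (Fin.append (fun i => φ₀ (X i)) 0)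
  have hφ : Function.Surjective φ := fun b => by
    obtain ⟨x, rfl⟩ := hφ₀ b
    refine ⟨rename (Fin.castAdd p) x, ?_⟩
    rw [aeval_rename]
    conv_rhs => rw [aeval_unique φ₀]
    congr 2
    funext i
    simp
  haveI : Algebra.EssFiniteType A B := inferInstance
  obtain ⟨c, h, cols, hc, hker, hdet⟩ := exists_minor φ q hφ p hdim
  let φbar : (MvPolynomial (Fin (n₀ + p)) A ⧸ Ideal.span (Set.range h)) →ₐ[A] B :=
    Ideal.Quotient.liftₐ _ φ fun x hx => by
      refine (Ideal.span_le.mpr ?_ : Ideal.span (Set.range h) ≤ RingHom.ker φ) hx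
      rintro _ ⟨i, rfl⟩
      exact hker i
  let Δ := (Matrix.of fun i j => pderiv (cols j) (h i)).det
  have hu : IsUnit (((IsScalarTower.toAlgHom A B (Localization.Away (φ Δ))).comp φbar)
      (Ideal.Quotient.mk _ Δ)) := IsLocalization.Away.algebraMap_isUnit (φ Δ)
  let π : Localization.Away (Ideal.Quotient.mk (Ideal.span (Set.range h)) Δ) →ₐ[A]
      Localization.Away (φ Δ) :=
    IsLocalization.liftAlgHom (M := Submonoid.powers (Ideal.Quotient.mk (Ideal.span (Set.range h)) Δ))
      (f := (IsScalarTower.toAlgHom A B (Localization.Away (φ Δ))).comp φbar) fun ⟨_, m, hm⟩ => by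
        subst hm; rw [map_pow]; exact hu.pow m
  have hrel := isStandardSmooth_away h cols
  rw [show n₀ + p - c = p by omega] at hrel
  refine ⟨φ Δ, hdet, _, inferInstance, inferInstance, π, fun z => ?_, hrel⟩
  obtain ⟨b, ⟨_, m, rfl⟩, rfl⟩ := IsLocalization.exists_mk'_eq (Submonoid.powers (φ Δ)) z
  obtain ⟨x, rfl⟩ := hφ b
  refine ⟨IsLocalization.mk' _ (Ideal.Quotient.mk _ x)
    (⟨_, m, rfl⟩ : Submonoid.powers (Ideal.Quotient.mk (Ideal.span (Set.range h)) Δ)), ?_⟩
  rw [IsLocalization.eq_mk'_iff_mul_eq]
  have h2 := congrArg π (IsLocalization.mk'_spec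
    (Localization.Away (Ideal.Quotient.mk (Ideal.span (Set.range h)) Δ)) (Ideal.Quotient.mk _ x)
    (⟨_, m, rfl⟩ : Submonoid.powers (Ideal.Quotient.mk (Ideal.span (Set.range h)) Δ)))
  simp only [π, map_mul, IsLocalization.liftAlgHom_apply, IsLocalization.lift_eq] at h2
  simp only [RingHom.coe_coe, AlgHom.comp_apply, IsScalarTower.coe_toAlgHom', map_pow] at h2
  simp only [map_pow]
  exact h2

end Groth.Agent.H11Jac
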