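import Groth.Agent.H11Jac.Point
import Groth.Agent.H17.LocusBC
import Groth.Agent.H02CA.FibreLocalDim
import Groth.Agent.S2063

/-!
Smoothness at a point of a flat morphism with equidimensional fibres, read on `Ω ⊗ κ`.
-/

set_option autoImplicit false
universe u

open CategoryTheory CategoryTheory.Limits AlgebraicGeometry TopologicalSpace Opposite TensorProduct

namespace Groth.Agent.H11Jac

section alg

attribute [local instance] Algebra.TensorProduct.rightAlgebra

variable {A B : Type u} [CommRing A] [CommRing B] [Algebra A B] (p : Ideal A) [p.IsPrime]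

theorem isLocalization_fibre_atPrime (Q : Ideal (p.Fiber B)) [Q.IsPrime] (q : Ideal B) [q.IsPrime]
    (hQ : Q.comap (algebraMap B (p.Fiber B)) = q) :
    IsLocalization Q.primeCompl ((p.Fiber B) ⊗[B] Localization.AtPrime q) := by
  have hmem : ∀ b : B, b ∉ q → algebraMap B (p.Fiber B) b ∉ Q := fun b hb h => hb (hQ.le h)
  have key : ∀ x ∈ Q.primeCompl, ∃ m ∈ Algebra.algebraMapSubmonoid (p.Fiber B) q.primeCompl, x ∣ m := by
    intro x hx
    obtain ⟨r, hr, b, hb⟩ := Ideal.Fiber.exists_smul_eq_one_tmul p x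
    refine ⟨algebraMap B (p.Fiber B) b, ⟨b, fun hbq => hx ?_, rfl⟩, ⟨algebraMap A (p.Fiber B) r, ?_⟩⟩
    · have hu : IsUnit (algebraMap A (p.Fiber B) r) := by
        rw [IsScalarTower.algebraMap_apply A p.ResidueField (p.Fiber B)]
        exact (isUnit_iff_ne_zero.mpr fun h => hr (Ideal.algebraMap_residueField_eq_zero.mp h)).map _
      have h1 : r • x ∈ Q := by
        rw [hb]
        exact hQ.ge hbq
      rw [Algebra.smul_def] at h1
      exact (Ideal.unit_mul_mem_iff_mem Q hu).mp h1
    · rw [mul_comm, ← Algebra.smul_def, hb]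
      rfl
  exact IsLocalization.of_le_of_exists_dvd (Algebra.algebraMapSubmonoid (p.Fiber B) q.primeCompl)
    Q.primeCompl (by rintro _ ⟨b, hb, rfl⟩; exact hmem b hb) key

/-- The comparison `(κ(p) ⊗ B) ⊗_B B_q ≅ κ(p) ⊗ B_q`. -/
noncomputable def fibreEquiv (q : Ideal B) [q.IsPrime] :
    (p.Fiber B) ⊗[B] Localization.AtPrime q ≃ₐ[p.ResidueField]
      p.ResidueField ⊗[A] Localization.AtPrime q :=
  let e : p.ResidueField ⊗[A] B ≃ₐ[B] B ⊗[A] p.ResidueField :=
    { __ := Algebra.TensorProduct.comm _ _ _, commutes' _ := rfl }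
  let e' : (p.ResidueField ⊗[A] B) ⊗[B] Localization.AtPrime q ≃ₐ[A]
      p.ResidueField ⊗[A] Localization.AtPrime q :=
    ((Algebra.TensorProduct.comm _ _ _).restrictScalars A).trans <|
    ((Algebra.TensorProduct.congr (.refl (R := B)) e).restrictScalars A).trans <|
    ((Algebra.TensorProduct.cancelBaseChange _ _ B _ _).restrictScalars A).trans <|
    (Algebra.TensorProduct.comm _ _ _)
  have h : e'.toAlgHom.comp (IsScalarTower.toAlgHom A p.ResidueField _) =
      IsScalarTower.toAlgHom _ _ _ := by ext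
  { __ := e', commutes' r := congr($h r) }

theorem isSmoothAt_fibre_iff [Algebra.FinitePresentation A B] (Q : Ideal (p.Fiber B)) [Q.IsPrime]
    (q : Ideal B) [q.IsPrime] [q.LiesOver p] (hQ : Q.comap (algebraMap B (p.Fiber B)) = q)
    (hflat : (Localization.localRingHom p q (algebraMap A B) (q.over_def p)).Flat) :
    Algebra.IsSmoothAt A q ↔ Algebra.IsSmoothAt p.ResidueField Q := by
  haveI := isLocalization_fibre_atPrime p Q q hQ
  let e : Localization.AtPrime Q ≃ₐ[p.ResidueField] (p.Fiber B) ⊗[B] Localization.AtPrime q :=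
    (IsLocalization.algEquiv Q.primeCompl (Localization.AtPrime Q)
      ((p.Fiber B) ⊗[B] Localization.AtPrime q)).restrictScalars p.ResidueField
  constructor
  · intro h
    haveI : Algebra.FormallySmooth A (Localization.AtPrime q) := h
    exact Algebra.FormallySmooth.of_equiv (A := p.ResidueField ⊗[A] Localization.AtPrime q)
      (B := Localization.AtPrime Q) (e.trans (fibreEquiv p q)).symm
  · intro h
    haveI : Algebra.FormallySmooth p.ResidueField (Localization.AtPrime Q) := h
    haveI hS : Algebra.FormallySmooth p.ResidueField (p.ResidueField ⊗[A] Localization.AtPrime q) :=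
      Algebra.FormallySmooth.of_equiv (A := Localization.AtPrime Q) (e.trans (fibreEquiv p q))
    let Rp := Localization.AtPrime p
    let Sp := Localization (Algebra.algebraMapSubmonoid B p.primeCompl)
    let Sq := Localization.AtPrime q
    let := Localization.AtPrime.algebraOfLiesOver p q
    have : Module.Flat Rp Sq := hflat
    let f : Sp →ₐ[B] Sq := IsLocalization.liftAlgHom (M := Algebra.algebraMapSubmonoid B p.primeCompl)
          (f := Algebra.ofId _ _) (by
        rintro ⟨_, x, hx, rfl⟩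
        simpa using! IsLocalization.map_units (M := q.primeCompl) Sq ⟨algebraMap _ _ x,
          by simp_all [q.over_def p]⟩)
    algebraize [f.toRingHom]
    have : IsScalarTower A Sp Sq := .to₁₃₄ _ B _ _
    have : IsScalarTower Rp Sp Sq := .of_algebraMap_eq' <| by
      apply IsLocalization.ringHom_ext p.primeCompl
      simp only [RingHom.comp_assoc, ← IsScalarTower.algebraMap_eq]
    have : IsLocalization (Algebra.algebraMapSubmonoid Sp q.primeCompl) Sq :=
      .isLocalization_of_submonoid_le _ _ (Algebra.algebraMapSubmonoid B p.primeCompl) _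
      (by rintro _ ⟨x, hx, rfl⟩; simp_all [q.over_def p])
    have : Algebra.FinitePresentation Rp Sp := by
      have : Algebra.IsPushout A Rp B Sp :=
        .symm <| Algebra.isPushout_of_isLocalization p.primeCompl _ _ _
      exact .equiv (Algebra.IsPushout.equiv A Rp B Sp)
    have : Algebra.FormallySmooth (IsLocalRing.ResidueField Rp)
        (IsLocalRing.ResidueField Rp ⊗[Rp] Sq) := by
      let e' : IsLocalRing.ResidueField Rp ⊗[A] Sq ≃ₐ[A] IsLocalRing.ResidueField Rp ⊗[Rp] Sq :=
        Algebra.TensorProduct.equivOfCompatibleSMul ..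
      have h' : e'.toAlgHom.comp (IsScalarTower.toAlgHom A p.ResidueField _) =
          IsScalarTower.toAlgHom _ _ _ := by ext
      let e'' : IsLocalRing.ResidueField Rp ⊗[A] Sq ≃ₐ[IsLocalRing.ResidueField Rp]
          IsLocalRing.ResidueField Rp ⊗[Rp] Sq :=
        { __ := e', commutes' r := congr($h' r) }
      exact .of_equiv e''
    have := Algebra.FormallySmooth.of_formallySmooth_residueField_tensor
      (R := Rp) (S := Sq) (P := Sp) (Algebra.algebraMapSubmonoid _ q.primeCompl)
    exact .comp A Rp Sq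

theorem finrank_fibre (Q : Ideal (p.Fiber B)) [Q.IsPrime] (q : Ideal B) [q.IsPrime]
    (hQ : Q.comap (algebraMap B (p.Fiber B)) = q) :
    Module.finrank Q.ResidueField (Q.ResidueField ⊗[p.Fiber B] KaehlerDifferential p.ResidueField (p.Fiber B)) =
      Module.finrank q.ResidueField (q.ResidueField ⊗[B] KaehlerDifferential A B) := by
  haveI : Q.LiesOver q := ⟨hQ.symm⟩
  letI := Localization.AtPrime.algebraOfLiesOver q Q
  let e₁ : Q.ResidueField ⊗[p.Fiber B] KaehlerDifferential p.ResidueField (p.Fiber B) ≃ₗ[Q.ResidueField]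
      Q.ResidueField ⊗[B] KaehlerDifferential A B :=
    (AlgebraTensorModule.congr (LinearEquiv.refl Q.ResidueField Q.ResidueField)
      (KaehlerDifferential.tensorKaehlerEquiv A p.ResidueField B (p.Fiber B)).symm).trans
      (AlgebraTensorModule.cancelBaseChange B (p.Fiber B) Q.ResidueField Q.ResidueField _)
  let e₂ : Q.ResidueField ⊗[q.ResidueField] (q.ResidueField ⊗[B] KaehlerDifferential A B) ≃ₗ[Q.ResidueField]
      Q.ResidueField ⊗[B] KaehlerDifferential A B :=
    AlgebraTensorModule.cancelBaseChange B q.ResidueField Q.ResidueField Q.ResidueField _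
  rw [(e₁.trans e₂.symm).finrank_eq, Module.finrank_baseChange]

end alg

variable {X S : Scheme.{u}}

theorem mem_support_iff_not_smooth (f : X ⟶ S) [Flat f] [LocallyOfFinitePresentation f] [QuasiSeparated f]
    (d : ℕ) (hdim : ∀ s : ↥S, ∀ T ∈ irreducibleComponents ↥(f.fiber s), topologicalKrullDim ↥T = d) (x : ↥X) :
    x ∈ (Fitt.sheafIdeal (Omega.sheaf f) d).support ↔ ¬ ∃ U : X.Opens, x ∈ U ∧ Smooth (U.ι ≫ f) := by
  obtain ⟨U, V, hxU, hU, hV, hle⟩ := H29Omega.exists_affine_chart f x
  haveI : LocallyOfFiniteType (f.fiberToSpecResidueField (f x)) :=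
    MorphismProperty.pullback_snd (P := @LocallyOfFiniteType) _ _ inferInstance
  have hfd : FlatMor.fibreDimAt f x = (d : WithBot ℕ∞) :=
    @H8Props.FieldDim.localDim_eq_of_pure (S.residueField (f x)) _ (f.fiber (f x))
      (f.fiberToSpecResidueField (f x)) inferInstance (f.asFiber x) d (hdim (f x))
  letI := (f.appLE V U hle).hom.toAlgebra
  haveI : Algebra.FinitePresentation Γ(S, V) Γ(X, U) := f.finitePresentation_appLE hV hU hle
  let q := hU.primeIdealOf ⟨x, hxU⟩
  let p := q.asIdeal.under Γ(S, V)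
  haveI : q.asIdeal.LiesOver p := ⟨rfl⟩
  let Q := PrimeSpectrum.preimageEquivFiber Γ(S, V) Γ(X, U) ⟨p, inferInstance⟩ ⟨q, rfl⟩
  have hQ : Q.asIdeal.comap (Algebra.TensorProduct.includeRight :
      Γ(X, U) →ₐ[Γ(S, V)] p.Fiber Γ(X, U)).toRingHom = q.asIdeal :=
    congr($((PrimeSpectrum.preimageEquivFiber Γ(S, V) Γ(X, U) ⟨p, inferInstance⟩).left_inv ⟨q, rfl⟩).1.asIdeal)
  have hflatAB : Module.Flat Γ(S, V) Γ(X, U) := Scheme.Hom.flat_appLE f hV hU hle
  have hflat : (Localization.localRingHom p q.asIdeal (algebraMap Γ(S, V) Γ(X, U)) rfl).Flat :=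
    RingHom.Flat.localRingHom (RingHom.flat_algebraMap_iff.mpr hflatAB) _ _ _
  have hld : FlatMor.localDim (PrimeSpectrum (p.Fiber Γ(X, U))) Q = (d : WithBot ℕ∞) := by
    let φ := Spec.map (CommRingCat.ofHom (algebraMap Γ(S, V) Γ(X, U)))
    haveI : LocallyOfFiniteType φ := (HasRingHomProperty.Spec_iff (P := @LocallyOfFiniteType)).mpr
      (RingHom.finiteType_algebraMap.mpr inferInstance)
    have hsq : φ ≫ hV.fromSpec = hU.fromSpec ≫ f := IsAffineOpen.SpecMap_appLE_fromSpec f hV hU hle
    rw [← H02CA.fibreDimAt_eq_localDim_fiber q Q hQ,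
      ← H8Props.FieldDim.fibreDimAt_comp_openImmersion φ hV.fromSpec q, hsq,
      H8Props.FieldDim.fibreDimAt_openImmersion_comp hU.fromSpec f q, hU.fromSpec_primeIdealOf]
    exact hfd
  rw [← not_iff_not, not_not, not_mem_support_iff f d hU hV hle ⟨x, hxU⟩,
    ← H17.LocusBC.mem_smoothLocus_iff_exists, Scheme.Hom.mem_smoothLocus,
    AlgebraicGeometry.formallySmooth_stalkMap_iff V hV U hU hle hxU]
  change _ ↔ Algebra.IsSmoothAt Γ(S, V) q.asIdeal
  letI : Algebra Γ(X, U) (p.Fiber Γ(X, U)) := Algebra.TensorProduct.rightAlgebra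
  rw [isSmoothAt_fibre_iff p Q.asIdeal q.asIdeal hQ hflat, Groth.Agent.S2063.result Q.asIdeal,
    finrank_fibre p Q.asIdeal q.asIdeal hQ, hld]
  exact ⟨fun h => by exact_mod_cast h, fun h => by exact_mod_cast h⟩

end Groth.Agent.H11Jac
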