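import Mathlib
import Groth.Prelude.Def_CAlgX

/-!
Smoothness of a quotient of a smooth algebra by an `H₁`-regular sequence, read on `Ω ⊗ κ`.
-/

set_option autoImplicit false
universe u

namespace Groth.Agent.H11Jac

open TensorProduct IsLocalRing

section dom

variable {P S : Type u} [CommRing P] [CommRing S] [IsLocalRing S] [Algebra P S]
  {c : ℕ} (r : Fin c → P) (hker : RingHom.ker (algebraMap P S) = Ideal.span (Set.range r))

include hker in
theorem finrank_tensor_ker (hr : CAlgX.IsH1Regular r) :
    Module.Finite (ResidueField S) (ResidueField S ⊗[P] RingHom.ker (algebraMap P S)) ∧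
    Module.finrank (ResidueField S) (ResidueField S ⊗[P] RingHom.ker (algebraMap P S)) = c := by
  classical
  have hmem : ∀ i, r i ∈ RingHom.ker (algebraMap P S) := fun i => by
    rw [hker]; exact Ideal.subset_span ⟨i, rfl⟩
  let s : (Fin c → P) →ₗ[P] RingHom.ker (algebraMap P S) :=
    Fintype.linearCombination P (fun i => (⟨r i, hmem i⟩ : RingHom.ker (algebraMap P S)))
  have hs : Function.Surjective s := fun x => by
    have hx : (x : P) ∈ Ideal.span (Set.range r) := hker.le x.2
    rw [← Ideal.submodule_span_eq, Submodule.mem_span_range_iff_exists_fun] at hx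
    obtain ⟨a, ha⟩ := hx
    exact ⟨a, Subtype.ext (by simpa [s, Fintype.linearCombination_apply] using ha)⟩
  let res : (Fin c → P) →ₗ[P] (Fin c → ResidueField S) :=
    LinearMap.pi fun i => (Algebra.linearMap P (ResidueField S)) ∘ₗ LinearMap.proj i
  have hzero : ∀ i, algebraMap P (ResidueField S) (r i) = 0 := fun i => by
    rw [IsScalarTower.algebraMap_apply P S (ResidueField S), RingHom.mem_ker.mp (hmem i), map_zero]
  have hle : LinearMap.ker s ≤ LinearMap.ker res := fun a ha => by
    have hsum : ∑ i, a i * r i = 0 := by
      simpa [s, Fintype.linearCombination_apply] using congrArg Subtype.val (LinearMap.mem_ker.mp ha)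
    refine (Submodule.span_le (p := LinearMap.ker res)).mpr ?_ (hr a hsum)
    rintro _ ⟨i, j, rfl⟩
    ext l
    simp only [res, LinearMap.pi_apply, LinearMap.comp_apply, LinearMap.proj_apply,
      Algebra.linearMap_apply, Pi.sub_apply, map_sub, Pi.zero_apply]
    simp [Pi.single_apply, apply_ite (algebraMap P (ResidueField S)), hzero]
  let ψ : RingHom.ker (algebraMap P S) →ₗ[P] (Fin c → ResidueField S) :=
    (Submodule.liftQ _ res hle).comp (s.quotKerEquivOfSurjective hs).symm.toLinearMap
  have hψ : ∀ a, ψ (s a) = res a := fun a => by
    have : (s.quotKerEquivOfSurjective hs).symm (s a) = Submodule.Quotient.mk a := by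
      rw [LinearEquiv.symm_apply_eq]; rfl
    simp only [ψ, LinearMap.comp_apply, LinearEquiv.coe_coe, this, Submodule.liftQ_apply]
  let Φ := ψ.liftBaseChange (ResidueField S)
  let Ψ : (Fin c → ResidueField S) →ₗ[ResidueField S] ResidueField S ⊗[P] RingHom.ker (algebraMap P S) :=
    Fintype.linearCombination (ResidueField S) (fun i => (1 : ResidueField S) ⊗ₜ[P] (s (Pi.single i 1)))
  have hΨ : Function.Surjective Ψ := by
    rw [← LinearMap.range_eq_top, eq_top_iff]
    intro t _
    induction t using TensorProduct.induction_on with
    | zero => exact zero_mem _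
    | add a b ha hb => exact add_mem (ha trivial) (hb trivial)
    | tmul z x =>
      obtain ⟨a, rfl⟩ := hs x
      rw [pi_eq_sum_univ a, map_sum, tmul_sum]
      refine Submodule.sum_mem _ fun i _ => ⟨Pi.single i (z * algebraMap P _ (a i)), ?_⟩
      rw [show (fun j => if i = j then (1 : P) else 0) = Pi.single i 1 from by
        ext j; simp [Pi.single_apply, eq_comm]]
      rw [map_smul, tmul_smul, Fintype.linearCombination_apply_single, smul_tmul', smul_tmul',
        smul_eq_mul, mul_one, Algebra.smul_def, mul_comm z]
  have hfin : Module.Finite (ResidueField S) (ResidueField S ⊗[P] RingHom.ker (algebraMap P S)) :=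
    Module.Finite.of_surjective Ψ hΨ
  refine ⟨hfin, le_antisymm ((LinearMap.finrank_le_finrank_of_surjective hΨ).trans (by simp)) ?_⟩
  have hΦ : Function.Surjective Φ := by
    rw [← LinearMap.range_eq_top, eq_top_iff]
    intro y _
    rw [pi_eq_sum_univ y]
    refine Submodule.sum_mem _ fun i _ => Submodule.smul_mem _ _
      ⟨(1 : ResidueField S) ⊗ₜ[P] s (Pi.single i 1), ?_⟩
    rw [LinearMap.liftBaseChange_tmul, one_smul, hψ]
    ext j
    simp [res, Pi.single_apply, apply_ite (algebraMap P (ResidueField S)), eq_comm]
  simpa using LinearMap.finrank_le_finrank_of_surjective hΦ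

end dom

theorem formallySmooth_iff_local {A P S : Type u} [CommRing A] [CommRing P] [CommRing S] [IsLocalRing S]
    [Algebra A P] [Algebra A S] [Algebra P S] [IsScalarTower A P S] [Algebra.FormallySmooth A P]
    [Module.Free P (KaehlerDifferential A P)] [Module.Finite P (KaehlerDifferential A P)]
    (hsurj : Function.Surjective (algebraMap P S)) {c : ℕ} (r : Fin c → P)
    (hker : RingHom.ker (algebraMap P S) = Ideal.span (Set.range r)) (hr : CAlgX.IsH1Regular r)
    [Algebra.EssFiniteType A S] :
    Algebra.FormallySmooth A S ↔
      Module.finrank (ResidueField S) (ResidueField S ⊗[S] KaehlerDifferential A S) + c ≤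
        Module.finrank P (KaehlerDifferential A P) := by
  classical
  haveI : Nontrivial P := (algebraMap P S).domain_nontrivial
  let K := ResidueField S
  obtain ⟨hfin, hdim⟩ := finrank_tensor_ker r hker hr
  rw [Algebra.FormallySmooth.iff_injective_cotangentComplexBaseChange_residueField (P := P) hsurj
    (hker ▸ Submodule.fg_span (Set.finite_range r))]
  let u := KaehlerDifferential.cotangentComplexBaseChange A S P K
  let g : KaehlerDifferential A P →ₗ[P] K ⊗[S] KaehlerDifferential A S :=
    ((TensorProduct.mk S K (KaehlerDifferential A S) 1).restrictScalars P).comp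
      (KaehlerDifferential.map A A P S)
  let L := g.liftBaseChange K
  have hLD : ∀ x : P, L (1 ⊗ₜ KaehlerDifferential.D A P x) =
      1 ⊗ₜ KaehlerDifferential.D A S (algebraMap P S x) := fun x => by
    simp [L, g, KaehlerDifferential.map_D]
  have hsur : Function.Surjective L := by
    rw [← LinearMap.range_eq_top, eq_top_iff]
    intro t _
    induction t using TensorProduct.induction_on with
    | zero => exact zero_mem _
    | add a b ha hb => exact add_mem (ha trivial) (hb trivial)
    | tmul z w =>
      obtain ⟨v, rfl⟩ := KaehlerDifferential.map_surjective_of_surjective A A P S hsurj w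
      exact ⟨z ⊗ₜ v, by simp [L, g, smul_tmul']⟩
  have h1 : LinearMap.range u ≤ LinearMap.ker L := by
    rintro _ ⟨t, rfl⟩
    induction t using TensorProduct.induction_on with
    | zero => simp
    | add a b ha hb => rw [map_add]; exact add_mem ha hb
    | tmul z x =>
      rw [LinearMap.mem_ker]
      simp only [u, KaehlerDifferential.cotangentComplexBaseChange_tmul]
      rw [map_smul, KaehlerDifferential.kerToTensor_apply, hLD, RingHom.mem_ker.mp x.2, map_zero, tmul_zero, smul_zero]
  have h2 : LinearMap.ker L ≤ LinearMap.range u := by
    let σ := Function.surjInv hsurj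
    have hσ : ∀ b, algebraMap P S (σ b) = b := Function.surjInv_eq hsurj
    let d : P → (K ⊗[P] KaehlerDifferential A P) ⧸ LinearMap.range u := fun x =>
      (LinearMap.range u).mkQ (1 ⊗ₜ KaehlerDifferential.D A P x)
    have key : ∀ x, d (σ (algebraMap P S x)) = d x := fun x => by
      simp only [d]
      rw [← sub_eq_zero, ← map_sub, Submodule.mkQ_apply, Submodule.Quotient.mk_eq_zero, ← tmul_sub, ← map_sub]
      refine ⟨1 ⊗ₜ ⟨σ (algebraMap P S x) - x, RingHom.mem_ker.mpr (by rw [map_sub, hσ, sub_self])⟩, ?_⟩
      change u _ = _
      simp only [u, KaehlerDifferential.cotangentComplexBaseChange_tmul, one_smul]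
      rw [KaehlerDifferential.kerToTensor_apply]
    let D₀ : S →ₗ[A] (K ⊗[P] KaehlerDifferential A P) ⧸ LinearMap.range u :=
      { toFun := fun b => d (σ b)
        map_add' := fun a b => by
          have h := key (σ a + σ b)
          rw [map_add, hσ, hσ] at h
          rw [h]; simp [d, tmul_add]
        map_smul' := fun a b => by
          have h := key (a • σ b)
          rw [← IsScalarTower.toAlgHom_apply A P S, map_smul, IsScalarTower.toAlgHom_apply, hσ] at h
          rw [h]
          simp only [d, Derivation.map_smul, RingHom.id_apply]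
          rw [← LinearMap.map_smul_of_tower]
          congr 1
          rw [← IsScalarTower.algebraMap_smul P a (KaehlerDifferential.D A P (σ b)), tmul_smul,
            IsScalarTower.algebraMap_smul] }
    let D' : Derivation A S ((K ⊗[P] KaehlerDifferential A P) ⧸ LinearMap.range u) :=
      Derivation.mk' D₀ fun a b => by
        change d (σ (a * b)) = a • d (σ b) + b • d (σ a)
        have h := key (σ a * σ b)
        rw [map_mul, hσ, hσ] at h
        rw [h]
        simp only [d, Derivation.leibniz, tmul_add, tmul_smul, map_add]
        rw [← IsScalarTower.algebraMap_smul S (σ a), ← IsScalarTower.algebraMap_smul S (σ b), hσ, hσ,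
          LinearMap.map_smul_of_tower, LinearMap.map_smul_of_tower]
    let G := D'.liftKaehlerDifferential.liftBaseChange K
    have hGL : G.comp L = (LinearMap.range u).mkQ := by
      apply TensorProduct.AlgebraTensorModule.ext
      intro z w
      have hw : w ∈ Submodule.span P (Set.range (KaehlerDifferential.D A P)) := by
        rw [KaehlerDifferential.span_range_derivation]; trivial
      have hz : z ⊗ₜ[P] w = z • ((1 : K) ⊗ₜ[P] w) := by rw [smul_tmul', smul_eq_mul, mul_one]
      rw [hz, map_smul, map_smul]
      congr 1
      clear hz
      induction hw using Submodule.span_induction with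
      | mem w hw =>
        obtain ⟨x, rfl⟩ := hw
        rw [LinearMap.comp_apply, hLD, LinearMap.liftBaseChange_tmul, one_smul,
          Derivation.liftKaehlerDifferential_comp_D]
        exact key x
      | zero => simp
      | add a b _ _ ha hb => rw [tmul_add, map_add, map_add, ha, hb]
      | smul p a _ ha =>
        rw [tmul_smul, LinearMap.map_smul_of_tower, LinearMap.map_smul_of_tower, ha]
    intro t ht
    have := LinearMap.congr_fun hGL t
    rw [LinearMap.comp_apply, LinearMap.mem_ker.mp ht, map_zero] at this
    exact (Submodule.Quotient.mk_eq_zero _).mp this.symm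
  have hn : Module.finrank K (K ⊗[P] KaehlerDifferential A P) =
      Module.finrank P (KaehlerDifferential A P) := Module.finrank_baseChange
  have hrk := L.finrank_range_add_finrank_ker
  rw [LinearMap.range_eq_top.mpr hsur, finrank_top, le_antisymm h2 h1, hn] at hrk
  have hru := u.finrank_range_add_finrank_ker
  rw [hdim] at hru
  change Function.Injective u ↔
    Module.finrank K (K ⊗[S] KaehlerDifferential A S) + c ≤ _
  constructor
  · intro hinj
    rw [LinearMap.ker_eq_bot.mpr hinj, finrank_bot] at hru
    omega
  · intro hle
    rw [← LinearMap.ker_eq_bot, ← Submodule.finrank_eq_zero (R := K)]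
    omega

end Groth.Agent.H11Jac
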