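import Groth.Agent.H11Jac.Point
import Groth.Agent.H11Jac.Lci
import Groth.Agent.H17.KoszComp.Scheme
import Groth.Agent.H17.LocusBC
import Groth.Agent.H29Slice.KoszulReg
import Groth.Agent.H29Slice.SeqOps

/-!
At an lci point of virtual dimension `m`, smooth = outside the `m`-th Jacobian locus.
-/

set_option autoImplicit false
universe u

open CategoryTheory CategoryTheory.Limits AlgebraicGeometry TopologicalSpace Opposite TensorProduct

namespace Groth.Agent.H11Jac

theorem isSmoothAt_iff {A C B : Type u} [CommRing A] [CommRing C] [CommRing B] [Algebra A C] [Algebra A B]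
    [Algebra C B] [IsScalarTower A C B] (m c : ℕ) [Algebra.IsStandardSmoothOfRelativeDimension (m + c) A C]
    [Algebra.FiniteType A B]
    (hsurj : Function.Surjective (algebraMap C B)) (r : Fin c → C) (hr : CAlgX.IsH1Regular r)
    (hker : RingHom.ker (algebraMap C B) = Ideal.span (Set.range r)) (q : Ideal B) [q.IsPrime] :
    Algebra.IsSmoothAt A q ↔
      Module.finrank q.ResidueField (q.ResidueField ⊗[B] KaehlerDifferential A B) ≤ m := by
  haveI : Algebra.IsStandardSmooth A C :=
    Algebra.IsStandardSmoothOfRelativeDimension.isStandardSmooth (m + c)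
  let p := q.comap (algebraMap C B)
  let P := Localization.AtPrime p
  let S := Localization.AtPrime q
  letI : Algebra P S := (Localization.localRingHom p q (algebraMap C B) rfl).toAlgebra
  haveI : IsScalarTower C P S := IsScalarTower.of_algebraMap_eq fun x => by
    rw [RingHom.algebraMap_toAlgebra, Localization.localRingHom_to_map,
      IsScalarTower.algebraMap_apply C B S]
  haveI : IsScalarTower A P S := IsScalarTower.of_algebraMap_eq fun x => by
    rw [IsScalarTower.algebraMap_apply A C P, IsScalarTower.algebraMap_apply A C S,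
      IsScalarTower.algebraMap_apply C P S]
  haveI : Algebra.FormallySmooth A P := Algebra.FormallySmooth.comp A C P
  haveI : Algebra.FormallyEtale C P := Algebra.FormallyEtale.of_isLocalization p.primeCompl
  haveI : Algebra.FormallyEtale B S := Algebra.FormallyEtale.of_isLocalization q.primeCompl
  let eP := KaehlerDifferential.tensorKaehlerEquivOfFormallyEtale A C P
  haveI : Module.Free P (KaehlerDifferential A P) := Module.Free.of_equiv eP
  haveI : Module.Finite P (KaehlerDifferential A P) := Module.Finite.equiv eP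
  haveI : Nontrivial B := ⟨⟨0, 1, fun h => Ideal.IsPrime.ne_top (inferInstance : q.IsPrime)
    ((Ideal.eq_top_iff_one _).mpr (h ▸ zero_mem _))⟩⟩
  haveI : Nontrivial C := (algebraMap C B).domain_nontrivial
  have hn : Module.finrank P (KaehlerDifferential A P) = m + c := by
    rw [← eP.finrank_eq, Module.finrank_baseChange]
    exact Module.finrank_eq_of_rank_eq
      (Algebra.IsStandardSmoothOfRelativeDimension.rank_kaehlerDifferential (R := A) (S := C) (m + c))
  have hsurjP : Function.Surjective (algebraMap P S) := by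
    intro z
    obtain ⟨⟨b, s⟩, rfl⟩ := IsLocalization.mk'_surjective q.primeCompl z
    obtain ⟨a, rfl⟩ := hsurj b
    obtain ⟨t, ht⟩ := hsurj (s : B)
    refine ⟨IsLocalization.mk' _ a (⟨t, fun h => s.2 (by rw [← ht]; exact h)⟩ : p.primeCompl), ?_⟩
    rw [RingHom.algebraMap_toAlgebra, Localization.localRingHom_mk']
    congr 1
    exact Subtype.ext ht
  have hmap : Submonoid.map (algebraMap C B) p.primeCompl = q.primeCompl := by
    ext b
    constructor
    · rintro ⟨a, ha, rfl⟩; exact ha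
    · intro hb; obtain ⟨a, rfl⟩ := hsurj b; exact ⟨a, hb, rfl⟩
  have hkP : RingHom.ker (algebraMap P S) = Ideal.span (Set.range (algebraMap C P ∘ r)) := by
    rw [Set.range_comp, ← Ideal.map_span, ← hker]
    exact IsLocalization.ker_map (S := P) S (algebraMap C B) hmap
  have hrP : CAlgX.IsH1Regular (algebraMap C P ∘ r) :=
    H29Slice.isH1Regular_localization p.primeCompl hr
  haveI : Algebra.EssFiniteType A S := Algebra.EssFiniteType.comp A B S
  change Algebra.FormallySmooth A S ↔ _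
  rw [formallySmooth_iff_local hsurjP _ hkP hrP, hn]
  let eS := KaehlerDifferential.tensorKaehlerEquivOfFormallyEtale A B S
  have e : Module.finrank (IsLocalRing.ResidueField S)
      (IsLocalRing.ResidueField S ⊗[S] KaehlerDifferential A S) =
      Module.finrank q.ResidueField (q.ResidueField ⊗[B] KaehlerDifferential A B) :=
    ((AlgebraTensorModule.congr (LinearEquiv.refl (IsLocalRing.ResidueField S) _) eS.symm).trans
      (AlgebraTensorModule.cancelBaseChange B S (IsLocalRing.ResidueField S) (IsLocalRing.ResidueField S)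
        (KaehlerDifferential A B))).finrank_eq
  rw [e]
  omega

variable {X Y : Scheme.{u}}

theorem exists_smooth_nhd_iff (f : Y ⟶ X) [LocallyOfFinitePresentation f] [QuasiSeparated f] (m : ℕ)
    (y : Y) (U : Y.Opens) (P : Scheme.{u}) (i : (U : Scheme.{u}) ⟶ P) (π : P ⟶ X) (c : ℕ) (hyU : y ∈ U)
    (hi : RegImm.IsRegularImmersionOfCodim RegImm.Kind.koszul c i)
    (hπ : SmoothOfRelativeDimension (m + c) π) (hfac : i ≫ π = U.ι ≫ f) :
    (∃ V : Y.Opens, y ∈ V ∧ Smooth (V.ι ≫ f)) ↔ y ∉ (Fitt.sheafIdeal (Omega.sheaf f) m).support := by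
  obtain ⟨W₀, hzW₀, hcl₀, rs₀, hlen₀, hreg₀, hker₀⟩ := hi.2 ⟨y, hyU⟩
  obtain ⟨V, hV, W₁, hW₁, hzW₁, e₁, hstd₁⟩ :=
    hπ.exists_isStandardSmoothOfRelativeDimension (i ⟨y, hyU⟩)
  obtain ⟨s, t, hst, hzs⟩ := exists_basicOpen_le_affine_inter W₀.2 hW₁ (i ⟨y, hyU⟩) ⟨hzW₀, hzW₁⟩
  have hDW₀ : P.basicOpen s ≤ W₀.1 := P.basicOpen_le s
  have hDW₁ : P.basicOpen s ≤ W₁ := hst.le.trans (P.basicOpen_le t)
  let D : P.affineOpens := ⟨P.basicOpen s, W₀.2.basicOpen s⟩
  obtain ⟨hcl, hreg, hker⟩ := H17.KoszComp.chart_restrict i W₀ D hDW₀ hcl₀ hreg₀ hker₀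
  let rs := rs₀.map (P.presheaf.map (homOfLE hDW₀).op).hom
  have hlen : rs.length = c := by simp [rs, hlen₀]
  have eD : D.1 ≤ π ⁻¹ᵁ V := hDW₁.trans e₁
  have hstd : RingHom.IsStandardSmoothOfRelativeDimension (m + c) (π.appLE V D.1 eD).hom := by
    rw [← π.appLE_map e₁ (homOfLE hDW₁).op, CommRingCat.hom_comp]
    letI := (P.presheaf.map (homOfLE hDW₁).op).hom.toAlgebra
    haveI : IsLocalization.Away t Γ(P, D.1) := by
      have := hW₁.isLocalization_of_eq_basicOpen t (homOfLE hDW₁) hst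
      exact this
    have h0 : RingHom.IsStandardSmoothOfRelativeDimension 0 (algebraMap Γ(P, W₁) Γ(P, D.1)) :=
      RingHom.IsStandardSmoothOfRelativeDimension.algebraMap_isLocalizationAway t
    have := RingHom.IsStandardSmoothOfRelativeDimension.comp h0 hstd₁
    simp only [Nat.zero_add, Nat.add_zero] at this
    exact this
  haveI : IsAffine (D.1 : Scheme.{u}) := D.2
  haveI := hcl
  have hU₀ : IsAffineOpen (i ⁻¹ᵁ D.1) := isAffine_of_isAffineHom (i ∣_ D.1)
  have hsurj : Function.Surjective (i.app D.1).hom := (H17.app_surjective_of_restrict i D.2).1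
  let U₁ : Y.Opens := U.ι ''ᵁ (i ⁻¹ᵁ D.1)
  have hU₁ : IsAffineOpen U₁ := hU₀.image_of_isOpenImmersion U.ι
  have hyU₁ : y ∈ U₁ := ⟨⟨y, hyU⟩, hzs, rfl⟩
  have hle : U₁ ≤ f ⁻¹ᵁ V := by
    rintro _ ⟨w, hw, rfl⟩
    change f (U.ι w) ∈ V
    rw [← Scheme.Hom.comp_apply, ← hfac, Scheme.Hom.comp_apply]
    exact eD hw
  let ψ : Γ(P, D.1) ⟶ Γ(Y, U₁) := i.app D.1 ≫ (U.ι.appIso (i ⁻¹ᵁ D.1)).inv
  have hψ : Function.Surjective ψ :=
    (ConcreteCategory.bijective_of_isIso (U.ι.appIso (i ⁻¹ᵁ D.1)).inv).2.comp hsurj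
  have hψk : RingHom.ker ψ.hom = Ideal.ofList rs := by
    rw [← hker]
    simp only [ψ, CommRingCat.hom_comp]
    exact RingHom.ker_comp_of_injective _
      (ConcreteCategory.bijective_of_isIso (U.ι.appIso (i ⁻¹ᵁ D.1)).inv).1
  have hcomp : π.appLE V D.1 eD ≫ ψ = f.appLE V U₁ hle := by
    rw [← cancel_mono (U.ι.appIso (i ⁻¹ᵁ D.1)).hom]
    simp only [ψ, Category.assoc, Iso.inv_hom_id, Category.comp_id]
    rw [Scheme.Hom.appIso_hom', Scheme.Hom.app_eq_appLE, Scheme.Hom.appLE_comp_appLE,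
      Scheme.Hom.appLE_comp_appLE]
    congr 1
  letI := (f.appLE V U₁ hle).hom.toAlgebra
  letI := (π.appLE V D.1 eD).hom.toAlgebra
  letI := ψ.hom.toAlgebra
  haveI : IsScalarTower Γ(X, V) Γ(P, D.1) Γ(Y, U₁) :=
    IsScalarTower.of_algebraMap_eq fun a => congr($(hcomp.symm) a)
  haveI : Algebra.IsStandardSmoothOfRelativeDimension (m + c) Γ(X, V) Γ(P, D.1) :=
    (RingHom.isStandardSmoothOfRelativeDimension_algebraMap (m + c)).mp hstd
  haveI : Algebra.FiniteType Γ(X, V) Γ(Y, U₁) := f.finiteType_appLE hV hU₁ hle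
  let r : Fin c → Γ(P, D.1) := fun j => rs.get (Fin.cast hlen.symm j)
  have hrange : Set.range r = {x | x ∈ rs} := by
    ext x
    refine ⟨?_, fun hx => ?_⟩
    · rintro ⟨j, rfl⟩; exact List.get_mem rs _
    · obtain ⟨j, hj⟩ := List.mem_iff_get.mp hx
      exact ⟨Fin.cast hlen j, hj⟩
  have hr : CAlgX.IsH1Regular r := by
    have h := H29Slice.isH1Regular_of_isKoszulRegular hreg
    subst hlen
    exact h
  have hk : RingHom.ker (algebraMap Γ(P, D.1) Γ(Y, U₁)) = Ideal.span (Set.range r) := by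
    rw [hrange]; exact hψk
  rw [not_mem_support_iff f m hU₁ hV hle ⟨y, hyU₁⟩,
    ← isSmoothAt_iff m c (A := Γ(X, V)) (C := Γ(P, D.1)) hψ r hr hk, ← H17.LocusBC.mem_smoothLocus_iff_exists,
    Scheme.Hom.mem_smoothLocus, AlgebraicGeometry.formallySmooth_stalkMap_iff V hV U₁ hU₁ hle hyU₁]
  exact Iff.rfl

end Groth.Agent.H11Jac
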