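import Groth.Agent.H11Jac.Alg
import Groth.Agent.H29Fitt.Sheaf
import Groth.Agent.H29Omega.SheafFinite

/-!
The Jacobian loci `J^p(X/Y)`: pointwise criterion and embeddings into smooth schemes of relative
dimension `p`.
-/

set_option autoImplicit false
universe u

open CategoryTheory CategoryTheory.Limits AlgebraicGeometry TopologicalSpace Opposite TensorProduct

namespace Groth.Agent.H11Jac

variable {X Y : Scheme.{u}} (f : X ⟶ Y) [LocallyOfFiniteType f] [QuasiSeparated f]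

theorem mem_support_iff (p : ℕ) {U : X.Opens} (hU : IsAffineOpen U) {V : Y.Opens} (hV : IsAffineOpen V)
    (h : U ≤ f ⁻¹ᵁ V) (x : U) :
    letI := (f.appLE V U h).hom.toAlgebra
    (x.1 ∈ (Fitt.sheafIdeal (Omega.sheaf f) p).support ↔
      Fitt.ideal Γ(X, U) (KaehlerDifferential Γ(Y, V) Γ(X, U)) p ≤ (hU.primeIdealOf x).asIdeal) := by
  letI := (f.appLE V U h).hom.toAlgebra
  haveI := H17.OmegaLocal.isIso_toSect f hU hV h
  haveI : Algebra.FiniteType Γ(Y, V) Γ(X, U) := f.finiteType_appLE hV hU h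
  haveI : Module.Finite Γ(X, U) (CommRingCat.KaehlerDifferential (f.appLE V U h)) :=
    (inferInstance : Module.Finite Γ(X, U) (KaehlerDifferential Γ(Y, V) Γ(X, U)))
  rw [H29Fitt.mem_support_iff (Omega.sheaf f) (H29Omega.isQCoh_sheaf f) (H29Omega.isFT_sheaf f) p hU x,
    ← H29Fitt.ideal_congr (asIso (OmAff.toSect f V U h)).toLinearEquiv p]
  exact Iff.rfl

theorem not_mem_support_iff (p : ℕ) {U : X.Opens} (hU : IsAffineOpen U) {V : Y.Opens} (hV : IsAffineOpen V)
    (h : U ≤ f ⁻¹ᵁ V) (x : U) :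
    letI := (f.appLE V U h).hom.toAlgebra
    (x.1 ∉ (Fitt.sheafIdeal (Omega.sheaf f) p).support ↔
      Module.finrank (hU.primeIdealOf x).asIdeal.ResidueField
        ((hU.primeIdealOf x).asIdeal.ResidueField ⊗[Γ(X, U)] KaehlerDifferential Γ(Y, V) Γ(X, U)) ≤ p) := by
  letI := (f.appLE V U h).hom.toAlgebra
  haveI : Algebra.FiniteType Γ(Y, V) Γ(X, U) := f.finiteType_appLE hV hU h
  rw [mem_support_iff f p hU hV h x]
  exact H29Fitt.not_le_prime_iff_finrank_le p _

theorem exists_embedding_of_not_mem_support (p : ℕ) (x : X)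
    (hx : x ∉ (Fitt.sheafIdeal (Omega.sheaf f) p).support) :
    ∃ (U : X.Opens) (U' : Scheme.{u}) (i : (U : Scheme.{u}) ⟶ U') (g : U' ⟶ Y),
      x ∈ U ∧ IsClosedImmersion i ∧ SmoothOfRelativeDimension p g ∧ i ≫ g = U.ι ≫ f := by
  obtain ⟨U, V, hxU, hU, hV, hle⟩ := H29Omega.exists_affine_chart f x
  letI := (f.appLE V U hle).hom.toAlgebra
  haveI : Algebra.FiniteType Γ(Y, V) Γ(X, U) := f.finiteType_appLE hV hU hle
  obtain ⟨g, hg, C, _, _, π, hπ, hC⟩ := exists_standardSmooth_cover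
    (hU.primeIdealOf ⟨x, hxU⟩).asIdeal p ((not_mem_support_iff f p hU hV hle ⟨x, hxU⟩).mp hx)
  have hxD : x ∈ X.basicOpen g := by
    by_contra hcon
    refine hg ((H29Blow.mem_primeIdealOf_iff hU ⟨x, hxU⟩ g).mpr fun hu => hcon ?_)
    exact (X.mem_basicOpen g x hxU).mpr hu
  haveI := hU.isLocalization_basicOpen g
  let e := IsLocalization.algEquiv (Submonoid.powers g) (Localization.Away g) Γ(X, X.basicOpen g)
  let π' : C →+* Γ(X, X.basicOpen g) := e.toRingHom.comp π.toRingHom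
  have hπ' : Function.Surjective π' := e.surjective.comp hπ
  have hcomp : f.appLE V (X.basicOpen g) ((X.basicOpen_le g).trans hle) =
      CommRingCat.ofHom (algebraMap Γ(Y, V) C) ≫ CommRingCat.ofHom π' := by
    rw [← f.appLE_map hle (homOfLE (X.basicOpen_le g)).op]
    refine CommRingCat.hom_ext (RingHom.ext fun a => ?_)
    refine Eq.symm ?_
    change e (π (algebraMap Γ(Y, V) C a)) = X.presheaf.map (homOfLE (X.basicOpen_le g)).op (f.appLE V U hle a)
    rw [π.commutes, IsScalarTower.algebraMap_apply Γ(Y, V) Γ(X, U) (Localization.Away g)]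
    exact e.commutes _
  haveI hsm : SmoothOfRelativeDimension p (Spec.map (CommRingCat.ofHom (algebraMap Γ(Y, V) C))) := by
    refine (HasRingHomProperty.Spec_iff (P := @SmoothOfRelativeDimension p)).mpr ?_
    refine RingHom.locally_of (RingHom.isStandardSmoothOfRelativeDimension_respectsIso) _ ?_
    change RingHom.IsStandardSmoothOfRelativeDimension p (algebraMap Γ(Y, V) C)
    exact (RingHom.isStandardSmoothOfRelativeDimension_algebraMap p).mpr hC
  haveI hi : IsClosedImmersion (Spec.map (CommRingCat.ofHom π')) :=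
    IsClosedImmersion.spec_of_surjective _ hπ'
  refine ⟨X.basicOpen g, Spec (CommRingCat.of C), (hU.basicOpen g).isoSpec.hom ≫ Spec.map (CommRingCat.ofHom π'),
    Spec.map (CommRingCat.ofHom (algebraMap Γ(Y, V) C)) ≫ hV.fromSpec, hxD, inferInstance, ?_, ?_⟩
  · exact smoothOfRelativeDimension_comp (n := p) (m := 0) _ _
  · rw [Category.assoc, ← Spec.map_comp_assoc, ← hcomp, hV.SpecMap_appLE_fromSpec f (hU.basicOpen g),
      IsAffineOpen.isoSpec_hom_fromSpec_assoc]

theorem not_mem_support_of_embedding (p : ℕ) (x : X) {U : X.Opens} {U' : Scheme.{u}}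
    (i : (U : Scheme.{u}) ⟶ U') (g : U' ⟶ Y) (hxU : x ∈ U) [IsClosedImmersion i]
    (hg : SmoothOfRelativeDimension p g) (hfac : i ≫ g = U.ι ≫ f) :
    x ∉ (Fitt.sheafIdeal (Omega.sheaf f) p).support := by
  obtain ⟨V, hV, W, hW, hxW, e, hstd⟩ :=
    hg.exists_isStandardSmoothOfRelativeDimension (i ⟨x, hxU⟩)
  let U₀ : U.toScheme.Opens := i ⁻¹ᵁ W
  have hU₀ : IsAffineOpen U₀ := hW.preimage i
  let U₁ : X.Opens := U.ι ''ᵁ U₀
  have hU₁ : IsAffineOpen U₁ := hU₀.image_of_isOpenImmersion U.ι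
  have hxU₁ : x ∈ U₁ := ⟨⟨x, hxU⟩, hxW, rfl⟩
  have hle : U₁ ≤ f ⁻¹ᵁ V := by
    rintro _ ⟨y, hy, rfl⟩
    change f (U.ι y) ∈ V
    rw [← Scheme.Hom.comp_apply, ← hfac, Scheme.Hom.comp_apply]
    exact e hy
  let ψ : Γ(U', W) ⟶ Γ(X, U₁) := i.app W ≫ (U.ι.appIso U₀).inv
  have hψ : Function.Surjective ψ :=
    (ConcreteCategory.bijective_of_isIso (U.ι.appIso U₀).inv).2.comp (i.app_surjective W hW)
  have hcomp : g.appLE V W e ≫ ψ = f.appLE V U₁ hle := by
    rw [← cancel_mono (U.ι.appIso U₀).hom]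
    simp only [ψ, Category.assoc, Iso.inv_hom_id, Category.comp_id]
    rw [Scheme.Hom.appIso_hom', Scheme.Hom.app_eq_appLE, Scheme.Hom.appLE_comp_appLE,
      Scheme.Hom.appLE_comp_appLE]
    congr 1
  letI := (f.appLE V U₁ hle).hom.toAlgebra
  letI := (g.appLE V W e).hom.toAlgebra
  letI := ψ.hom.toAlgebra
  haveI : IsScalarTower Γ(Y, V) Γ(U', W) Γ(X, U₁) :=
    IsScalarTower.of_algebraMap_eq fun a => congr($(hcomp.symm) a)
  haveI : Algebra.IsStandardSmoothOfRelativeDimension p Γ(Y, V) Γ(U', W) :=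
    (RingHom.isStandardSmoothOfRelativeDimension_algebraMap p).mp hstd
  haveI : Algebra.FiniteType Γ(Y, V) Γ(X, U₁) := f.finiteType_appLE hV hU₁ hle
  rw [mem_support_iff f p hU₁ hV hle ⟨x, hxU₁⟩]
  intro hle'
  haveI : Nontrivial Γ(X, U₁) := ⟨⟨0, 1, fun h01 => (hU₁.primeIdealOf ⟨x, hxU₁⟩).isPrime.ne_top
    ((Ideal.eq_top_iff_one _).mpr (h01 ▸ zero_mem _))⟩⟩
  haveI : Nontrivial Γ(U', W) := ψ.hom.domain_nontrivial
  haveI : Algebra.IsStandardSmooth Γ(Y, V) Γ(U', W) :=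
    Algebra.IsStandardSmoothOfRelativeDimension.isStandardSmooth p
  obtain ⟨b, hb⟩ : ∃ b : Fin p → KaehlerDifferential Γ(Y, V) Γ(U', W),
      Submodule.span Γ(U', W) (Set.range b) = ⊤ := by
    have hr := Algebra.IsStandardSmoothOfRelativeDimension.rank_kaehlerDifferential
      (R := Γ(Y, V)) (S := Γ(U', W)) p
    let b₀ := Module.finBasisOfFinrankEq Γ(U', W) (KaehlerDifferential Γ(Y, V) Γ(U', W))
      (Module.finrank_eq_of_rank_eq hr)
    exact ⟨b₀, b₀.span_eq⟩
  have hspan : Submodule.span Γ(X, U₁) (Set.range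
      (KaehlerDifferential.map Γ(Y, V) Γ(Y, V) Γ(U', W) Γ(X, U₁) ∘ b)) = ⊤ := by
    rw [eq_top_iff, ← Submodule.restrictScalars_le (S := Γ(U', W))]
    refine le_trans ?_ (Submodule.span_le_restrictScalars Γ(U', W) Γ(X, U₁) _)
    rw [Set.range_comp, ← Submodule.map_span, hb, Submodule.map_top,
      LinearMap.range_eq_top.mpr (KaehlerDifferential.map_surjective_of_surjective _ _ _ _ hψ)]
    exact le_top
  rw [H29Fitt.ideal_eq_top_of_span _ hspan le_rfl] at hle'
  exact (hU₁.primeIdealOf ⟨x, hxU₁⟩).isPrime.ne_top (top_le_iff.mp hle')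

end Groth.Agent.H11Jac
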